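import Mathlib

set_option autoImplicit false

namespace Cfsg.Agent.Lib.Helper63.Alt2P

theorem small_pairs (n : ℕ) (h9 : 9 ≤ n) (hn : n < 2048) :
    ∃ p q : ℕ, p.Prime ∧ q.Prime ∧ n < p ∧ p + 4 ≤ q ∧ q ≤ 2 * n := by
  rcases Nat.lt_or_ge n 13 with h | h
  · exact ⟨13, 17, by norm_num, by norm_num, by omega, by omega, by omega⟩
  rcases Nat.lt_or_ge n 19 with h | h
  · exact ⟨19, 23, by norm_num, by norm_num, by omega, by omega, by omega⟩
  rcases Nat.lt_or_ge n 31 with h | h
  · exact ⟨31, 37, by norm_num, by norm_num, by omega, by omega, by omega⟩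
  rcases Nat.lt_or_ge n 53 with h | h
  · exact ⟨53, 61, by norm_num, by norm_num, by omega, by omega, by omega⟩
  rcases Nat.lt_or_ge n 97 with h | h
  · exact ⟨97, 103, by norm_num, by norm_num, by omega, by omega, by omega⟩
  rcases Nat.lt_or_ge n 181 with h | h
  · exact ⟨181, 193, by norm_num, by norm_num, by omega, by omega, by omega⟩
  rcases Nat.lt_or_ge n 353 with h | h
  · exact ⟨353, 359, by norm_num, by norm_num, by omega, by omega, by omega⟩
  rcases Nat.lt_or_ge n 691 with h | h
  · exact ⟨691, 701, by norm_num, by norm_num, by omega, by omega, by omega⟩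
  rcases Nat.lt_or_ge n 1373 with h | h
  · exact ⟨1373, 1381, by norm_num, by norm_num, by omega, by omega, by omega⟩
  · exact ⟨2731, 2741, by norm_num, by norm_num, by omega, by omega, by omega⟩

end Cfsg.Agent.Lib.Helper63.Alt2P
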